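import Cfsg.Agent.Lib.Alperin22.List
import Cfsg.Agent.Lib.Fusion.GroupFusion
import Cfsg.Prelude.Def_TwoFusion

/-!
# Alperin's theorem on groups of 2-rank two, group form
-/

set_option autoImplicit false

namespace Cfsg.Agent.Lib.Alperin22

open Cfsg Cfsg.FusionSystem

variable {G : Type*} [Group G] [Finite G]

theorem rank_sylow (S : Sylow 2 G) (h2 : Cfsg.PRankLE 2 2 G) (h1 : ¬ Cfsg.PRankLE 2 1 G) :
    Cfsg.PRankAtLeast 2 2 ↥(S : Subgroup G) ∧ ¬ Cfsg.PRankAtLeast 2 3 ↥(S : Subgroup G) := by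
  haveI : Fact (Nat.Prime 2) := ⟨Nat.prime_two⟩
  constructor
  · simp only [Cfsg.PRankLE, not_forall, not_le] at h1
    obtain ⟨A, hA1, hA2, hA3⟩ := h1
    have hAp : IsPGroup 2 A := fun a => ⟨1, Subtype.ext (by simpa using hA2 a a.2)⟩
    obtain ⟨R, hR⟩ := hAp.exists_le_sylow
    obtain ⟨g, hg⟩ := MulAction.exists_smul_eq G R S
    set B := A.map (MulAut.conj g).toMonoidHom with hB
    have hBS : B ≤ (S : Subgroup G) := by
      rw [← hg]
      rintro _ ⟨a, ha, rfl⟩
      exact ⟨a, hR ha, rfl⟩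
    refine ⟨B.subgroupOf S, ⟨⟨fun a b => ?_⟩⟩, fun a ha => ?_, ?_⟩
    · obtain ⟨x, hx, hxa⟩ := Subgroup.mem_subgroupOf.1 a.2
      obtain ⟨y, hy, hyb⟩ := Subgroup.mem_subgroupOf.1 b.2
      apply Subtype.ext
      apply Subtype.ext
      show ((a : (S : Subgroup G)) : G) * b = ((b : (S : Subgroup G)) : G) * a
      have hxy : x * y = y * x := congrArg Subtype.val (hA1.1.1 ⟨x, hx⟩ ⟨y, hy⟩)
      rw [← hxa, ← hyb, ← map_mul, ← map_mul, hxy]
    · obtain ⟨x, hx, hxa⟩ := Subgroup.mem_subgroupOf.1 ha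
      apply Subtype.ext
      rw [SubgroupClass.coe_pow, ← hxa, ← map_pow, hA2 x hx, map_one, OneMemClass.coe_one]
    · rw [Nat.card_congr (Subgroup.subgroupOfEquivOfLe hBS).toEquiv, hB,
        Subgroup.card_map_of_injective (MulAut.conj g).injective]
      obtain ⟨k, hk⟩ := IsPGroup.iff_card.mp hAp
      rw [hk] at hA3 ⊢
      refine Nat.pow_le_pow_right two_pos ?_
      by_contra hlt
      exact absurd (Nat.pow_le_pow_right two_pos (show k ≤ 1 by omega)) (by omega)
  · rintro ⟨A, hA1, hA2, hA3⟩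
    have h := h2 (A.map (S : Subgroup G).subtype) ⟨⟨fun a b => ?_⟩⟩ fun a ha => ?_
    · rw [Subgroup.card_map_of_injective (S : Subgroup G).subtype_injective] at h
      have := hA3.trans h
      norm_num at this
    · obtain ⟨x, hx, hxa⟩ := a.2
      obtain ⟨y, hy, hyb⟩ := b.2
      apply Subtype.ext
      show (a : G) * b = (b : G) * a
      have hxy : x * y = y * x := congrArg Subtype.val (hA1.1.1 ⟨x, hx⟩ ⟨y, hy⟩)
      rw [← hxa, ← hyb, ← map_mul, ← map_mul, hxy]
    · obtain ⟨x, hx, rfl⟩ := ha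
      rw [← map_pow, hA2 x hx, map_one]

/-- Without isolated involutions the fusion system of a Sylow 2-subgroup has trivial centre. -/
theorem center_eq_bot (S : Sylow 2 G) (hiso : ∀ z : G, ¬ Cfsg.IsIsolatedInvolution z) :
    (groupFusionSystem (S : Subgroup G)).center = ⊥ := by
  haveI : Fact (Nat.Prime 2) := ⟨Nat.prime_two⟩
  set F := groupFusionSystem (S : Subgroup G) with hF
  by_contra hne
  have hCS : F.center ≤ (S : Subgroup G) := Fusion87.center_le F
  haveI : Finite F.center := inferInstance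
  obtain ⟨k, hk⟩ := IsPGroup.iff_card.mp (S.2.to_le hCS)
  have hk0 : k ≠ 0 := fun h0 => hne (Subgroup.card_eq_one.mp (by rw [hk, h0, pow_zero]))
  obtain ⟨⟨z, hz⟩, hz2⟩ := exists_prime_orderOf_dvd_card' (G := F.center) 2 (hk ▸ dvd_pow_self 2 hk0)
  rw [Subgroup.orderOf_mk] at hz2
  obtain ⟨zz, -⟩ := sq_of_orderOf_two hz2
  -- conjugates of `z` inside `S` equal `z`
  have hfix : ∀ a : G, a * z * a⁻¹ ∈ (S : Subgroup G) → a * z * a⁻¹ = z := by
    intro a ha
    have hP : Subgroup.zpowers z ≤ (S : Subgroup G) := Subgroup.zpowers_le.2 (hCS hz)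
    have hφ : conjHom (Subgroup.zpowers z) a ∈ F.Hom (Subgroup.zpowers z) := by
      refine ⟨hP, fun x => ?_, a, fun x => rfl⟩
      obtain ⟨j, hj⟩ := Subgroup.mem_zpowers_iff.1 x.2
      show a * (x : G) * a⁻¹ ∈ (S : Subgroup G)
      rw [← hj, ← conj_zpow]
      exact Subgroup.zpow_mem _ ha j
    exact Fusion87.apply_eq_of_mem_center hφ ⟨z, Subgroup.mem_zpowers z⟩ hz
  refine hiso z ⟨hz2, fun g hg => ?_⟩
  set y := g * z * g⁻¹ with hy
  have yy : y * y = 1 := by
    rw [hy]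
    calc g * z * g⁻¹ * (g * z * g⁻¹) = g * (z * z) * g⁻¹ := by group
      _ = 1 := by rw [zz, mul_one, mul_inv_cancel]
  have hgen : IsPGroup 2 (Subgroup.closure ({z, y} : Set G)) := by
    let B : Subgroup G :=
      { carrier := {u | u = 1 ∨ u = z ∨ u = y ∨ u = z * y}
        one_mem' := Or.inl rfl
        mul_mem' := by
          have e1 : ∀ u : G, z * (z * u) = u := fun u => by rw [← mul_assoc, zz, one_mul]
          have e2 : ∀ u : G, y * (y * u) = u := fun u => by rw [← mul_assoc, yy, one_mul]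
          have e3 : y * z = z * y := hg.symm.eq
          have e4 : ∀ u : G, y * (z * u) = z * (y * u) := fun u => by rw [← mul_assoc, e3, mul_assoc]
          rintro a b (rfl | rfl | rfl | rfl) (rfl | rfl | rfl | rfl) <;>
            simp only [Set.mem_setOf_eq, one_mul, mul_one, mul_assoc, e1, e2, e3, e4, zz, yy] <;>
            simp
        inv_mem' := by
          have e5 : z⁻¹ = z := inv_eq_of_mul_eq_one_right zz
          have e6 : y⁻¹ = y := inv_eq_of_mul_eq_one_right yy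
          rintro a (rfl | rfl | rfl | rfl) <;> simp [e5, e6, ← hg.eq] }
    refine fun u => ⟨1, Subtype.ext ?_⟩
    have hu : (u : G) ∈ B := (Subgroup.closure_le B).2 (by
      rintro v (rfl | rfl) <;> simp [B]) u.2
    have hzy : z * y * (z * y) = 1 := by
      rw [hg.symm.mul_mul_mul_comm, zz, yy, one_mul]
    rcases hu with e | e | e | e <;> simp [pow_two, e, zz, yy, hzy]
  obtain ⟨R, hR⟩ := hgen.exists_le_sylow
  obtain ⟨h, hh⟩ := MulAction.exists_smul_eq G R S
  have hin : ∀ u : G, u ∈ ({z, y} : Set G) → h * u * h⁻¹ ∈ (S : Subgroup G) := fun u hu => by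
    rw [← hh]
    exact ⟨u, hR (Subgroup.subset_closure hu), rfl⟩
  have h1 := hfix h (hin z (by simp))
  have h2 := hfix (h * g) (by
    have := hin y (by simp)
    rw [hy, show h * (g * z * g⁻¹) * h⁻¹ = h * g * z * (h * g)⁻¹ by group] at this
    exact this)
  refine mul_left_cancel (mul_right_cancel (b := h⁻¹) (a := h * y) ?_)
  rw [h1, hy]
  calc h * (g * z * g⁻¹) * h⁻¹ = h * g * z * (h * g)⁻¹ := by group
    _ = z := h2

/-- Alperin's theorem. -/
theorem group_list (h2 : Cfsg.PRankLE 2 2 G) (h1 : ¬ Cfsg.PRankLE 2 1 G)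
    (hiso : ∀ z : G, ¬ Cfsg.IsIsolatedInvolution z) (S : Sylow 2 G) {K : Type*} [Field K] [Fintype K]
    (hK : Fintype.card K = 16) (P : Sylow 2 (Cfsg.PSU 3 K 4)) :
    (∃ m : ℕ, 2 ≤ m ∧ Nonempty ((S : Subgroup G) ≃* DihedralGroup m)) ∨
      Cfsg.IsQuasiDihedral (S : Subgroup G) ∨ Cfsg.IsWreathed (S : Subgroup G) ∨
      (∃ n : ℕ, 2 ≤ n ∧ Nonempty ((S : Subgroup G) ≃* Multiplicative (ZMod (2 ^ n) × ZMod (2 ^ n)))) ∨
      Nonempty ((S : Subgroup G) ≃* (P : Subgroup (Cfsg.PSU 3 K 4))) := by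
  haveI : Fact (Nat.Prime 2) := ⟨Nat.prime_two⟩
  exact sylow_list S.2 (Fusion.isSaturated_groupFusion S) (rank_sylow S h2 h1) (center_eq_bot S hiso) hK P

end Cfsg.Agent.Lib.Alperin22
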