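import Cfsg.Agent.Lib.Alperin22.Realisable
import Cfsg.Agent.Lib.RankTwoFusion69.Core
import Cfsg.Agent.Lib.Fusion87.Inner
import Cfsg.Agent.Lib.Fusion.PPowerNormal
import Cfsg.Agent.Lib.Fusion.Quotient
import Cfsg.Agent.Lib.Fusion.Components
import Cfsg.Agent.Lib.PGroup.Frattini

/-!
# Simple fusion systems: no normal subgroup, full focal subgroup, both classes rotated
-/

set_option autoImplicit false

namespace Cfsg.Agent.Lib.Alperin22

open Cfsg Cfsg.FusionSystem Cfsg.Agent.Lib.Fusion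

universe u

variable {Ω : Type u} [Group Ω] {S : Subgroup Ω} {F : FusionSystem S}

/-- The displacements of the system generate `S` modulo every subgroup containing the commutators. -/
def Full (F : FusionSystem S) : Prop :=
  ∀ T : Subgroup Ω, T ≤ S → (∀ a ∈ S, ∀ b ∈ S, a * b * a⁻¹ * b⁻¹ ∈ T) →
    (∀ x y : Ω, F.IsConjElt x y → x⁻¹ * y ∈ T) → S ≤ T

/-- A simple system over a group with more than two elements has no normal subgroup. -/
theorem eq_bot_of_isNormal_of_simple [Finite S] (hS : IsPGroup 2 S) (hF : F.IsSimple 2)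
    (h2 : Nat.card S ≠ 2) {Q : Subgroup Ω} (hQ : F.IsNormal Q) : Q = ⊥ := by
  haveI : Fact (Nat.Prime 2) := ⟨Nat.prime_two⟩
  rcases hF.2.2 Q _ (Fusion87.inner_isNormalIn hS hF.1 hQ) with h | ⟨rfl, hHom⟩
  · exact h
  exfalso
  haveI : Nontrivial Q := (Subgroup.nontrivial_iff_ne_bot _).2 hF.2.1
  haveI := hS.center_nontrivial
  obtain ⟨j, hj⟩ := IsPGroup.iff_card.mp (hS.to_subgroup (Subgroup.center Q))
  have hj0 : j ≠ 0 := by
    rintro rfl
    exact (Finite.one_lt_card (α := Subgroup.center Q)).ne' (by simpa using hj)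
  obtain ⟨⟨⟨z, hzQ⟩, hzc⟩, hz2⟩ := exists_prime_orderOf_dvd_card' (G := Subgroup.center Q) 2
    (hj ▸ dvd_pow_self 2 hj0)
  have hord : orderOf z = 2 := by simpa [← Subgroup.orderOf_coe] using hz2
  have hzQ' : Subgroup.zpowers z ≤ Q := Subgroup.zpowers_le.2 hzQ
  have hcomm : ∀ g ∈ Q, z * g = g * z := fun g hg =>
    (congrArg Subtype.val (Subgroup.mem_center_iff.1 hzc ⟨g, hg⟩)).symm
  have hcent : F.IsCentral (Subgroup.zpowers z) := by
    refine ⟨hzQ', fun P φ hφ => ?_⟩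
    rw [← hHom] at hφ
    obtain ⟨hP, g, hg, hφx⟩ := hφ
    refine ⟨conjHom _ g, F.conj_mem (sup_le hP hzQ') hg, fun x => (hφx x).symm, fun x => ?_⟩
    show g * (x : Ω) * g⁻¹ = x
    obtain ⟨k, hk⟩ := Subgroup.mem_zpowers_iff.1 x.2
    rw [← hk, ← ((show Commute z g from hcomm g hg).zpow_left k).eq, mul_inv_cancel_right]
  rcases hF.2.2 _ _ (Fusion87.inner_isNormalIn hS hF.1
      (Fusion.Components.isNormal_of_isCentral hcent)) with h | ⟨h, -⟩
  · rw [show z = 1 from Subgroup.zpowers_eq_bot.1 h, orderOf_one] at hord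
    omega
  · exact h2 (by rw [← h, Nat.card_zpowers, hord])

theorem center_eq_bot_of_simple [Finite S] (hS : IsPGroup 2 S) (hF : F.IsSimple 2)
    (h2 : Nat.card S ≠ 2) : F.center = ⊥ :=
  eq_bot_of_isNormal_of_simple hS hF h2
    (Fusion.Components.isNormal_of_isCentral (FusionFactor.isCentral_center F))

/-- The focal subgroup of a simple system is everything. -/
theorem full_of_simple [Finite S] (hS : IsPGroup 2 S) (hF : F.IsSimple 2) (h2 : Nat.card S ≠ 2) :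
    Full F := by
  haveI : Fact (Nat.Prime 2) := ⟨Nat.prime_two⟩
  intro T hTS hcom hdisp
  have hhyp : F.hyperfocalSubgroup 2 ≤ T := by
    refine (Subgroup.closure_le _).2 ?_
    rintro _ ⟨P, α, x, hP, -, rfl⟩
    refine hdisp _ _ ⟨_, restrict_mem (autGroup_hom_mem hP α.2) (Subgroup.zpowers_le.2 x.2), ?_⟩
    rfl
  have hTn : (T.subgroupOf S).Normal := ⟨fun n hn g => by
    rw [Subgroup.mem_subgroupOf] at hn ⊢
    have h := T.mul_mem (hcom g g.2 n n.2) hn
    simpa [mul_assoc] using h⟩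
  obtain ⟨E, hEs, hEi, -⟩ := exists_pPowerIndex hS hF.1 hTS hhyp
  rcases hF.2.2 T E (isNormalIn_of_hasPPowerIndexIn hS hF.1 hTS hTn hEs hEi) with h | ⟨h, -⟩
  · exfalso
    refine hF.2.1 (eq_bot_of_isNormal_of_simple hS hF h2 (isNormal_self_of_comm hS hF.1 fun a b => ?_))
    have h1 := hcom a a.2 b b.2
    rw [h, Subgroup.mem_bot] at h1
    refine Subtype.ext ?_
    show (a : Ω) * b = b * a
    calc (a : Ω) * b = (a * b * (a : Ω)⁻¹ * (b : Ω)⁻¹) * (b * a) := by group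
      _ = b * a := by rw [h1, one_mul]
  · exact h.ge

/-- The maps moving elements only inside cosets of `T`. -/
def dispSystem (F : FusionSystem S) (T : Subgroup Ω)
    (hcom : ∀ a ∈ S, ∀ b ∈ S, a * b * a⁻¹ * b⁻¹ ∈ T) : FusionSystem S where
  Hom P := {φ | φ ∈ F.Hom P ∧ ∀ x : P, (x : Ω)⁻¹ * φ x ∈ T}
  le_of_mem h := F.le_of_mem h.1
  injective_of_mem h := F.injective_of_mem h.1
  conj_mem := by
    intro P g hP hg
    refine ⟨F.conj_mem hP hg, fun x => ?_⟩
    have h := hcom (x : Ω)⁻¹ (S.inv_mem (hP x.2)) g hg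
    rw [inv_inv] at h
    simpa [mul_assoc] using h
  comp_mem := by
    rintro P Q φ ψ ⟨hφ, hφT⟩ ⟨hψ, hψT⟩ h
    refine ⟨F.comp_mem hφ hψ h, fun x => ?_⟩
    have e := T.mul_mem (hφT x) (hψT ⟨φ x, h x⟩)
    simpa [mul_assoc] using e
  inv_mem := by
    rintro P φ ⟨hφ, hφT⟩
    obtain ⟨ψ, hψ, hx⟩ := F.inv_mem hφ
    refine ⟨ψ, ⟨hψ, ?_⟩, hx⟩
    rintro ⟨_, x, rfl⟩
    rw [hx]
    have e := T.inv_mem (hφT x)
    simpa using e

theorem hasThree_of_full [Finite S] (hS : IsPGroup 2 S) (hF : F.IsSaturated 2) (hfull : Full F)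
    {K₁ K₂ : Subgroup S} (hcov : RankTwoFusion69.Covers K₁ K₂) (hne : K₂ ≠ ⊤)
    (hodd₁ : RankTwoFusion69.OddThree (RankTwoFusion69.up K₁))
    (hodd₂ : RankTwoFusion69.OddThree (RankTwoFusion69.up K₂)) :
    ∃ a ∈ F.autGroup (RankTwoFusion69.up K₁), orderOf a = 3 := by
  haveI : Fact (Nat.Prime 2) := ⟨Nat.prime_two⟩
  by_contra hno
  haveI : Group.IsNilpotent S := hS.isNilpotent
  set T := RankTwoFusion69.up (K₂ ⊔ commutator S)
  have hcom : ∀ a ∈ S, ∀ b ∈ S, a * b * a⁻¹ * b⁻¹ ∈ T := fun a ha b hb =>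
    ⟨⟨a, ha⟩ * ⟨b, hb⟩ * ⟨a, ha⟩⁻¹ * ⟨b, hb⟩⁻¹, Subgroup.mem_sup_right
      (Subgroup.commutator_mem_commutator (Subgroup.mem_top (⟨a, ha⟩ : S)) (Subgroup.mem_top (⟨b, hb⟩ : S))), rfl⟩
  have hle : F ≤ dispSystem F T hcom := by
    refine RankTwoFusion69.le_of_covers hS hF hcov
      (fun hn => RankTwoFusion69.autGroup_le_of_three hS hF hn hodd₁
        fun a ha h3 => absurd ⟨a, ha, h3⟩ hno)
      fun hn => RankTwoFusion69.autGroup_le_of_three hS hF hn hodd₂ fun a ha _ =>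
        (mem_autGroup (RankTwoFusion69.up_le _)).2
          ⟨autGroup_hom_mem (RankTwoFusion69.up_le _) ha, fun x => ?_⟩
    have hK : RankTwoFusion69.up K₂ ≤ T := Subgroup.map_mono le_sup_left
    exact T.mul_mem (T.inv_mem (hK x.2)) (hK (a x).2)
  have hST : S ≤ T := hfull T (RankTwoFusion69.up_le _) hcom fun x y hxy => by
    obtain ⟨φ, hφ, rfl⟩ := hxy
    exact (hle _ hφ).2 ⟨x, Subgroup.mem_zpowers x⟩
  have htop : K₂ ⊔ commutator S = ⊤ := (Subgroup.eq_top_iff' _).2 fun s => by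
    obtain ⟨t, ht, e⟩ := hST s.2
    rwa [← Subtype.ext e]
  exact hne (frattini_nongenerating (top_le_iff.1
    (htop.symm.le.trans (sup_le_sup_left (Lib.PFrattini.commutator_le_frattini hS) _))))

end Cfsg.Agent.Lib.Alperin22
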